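import Groth.Agent.S11380
import Groth.Agent.CIDivLib.Dim
import Groth.Agent.GrTildeLib.Chart
import Groth.Agent.RGammaBoundLib.Main
import Groth.Agent.VarDimLib.Basic
import Groth.Agent.GenusZeroLib.Mult
import Groth.Agent.CurvLib.StalkSum
import Groth.Agent.FormalCohLib.ProjAmple

/-!
# Complements of set-theoretic complete intersections
-/

set_option autoImplicit false
set_option linter.style.haveILetI false
set_option linter.unusedSectionVars false
set_option maxHeartbeats 1000000
set_option synthInstance.maxHeartbeats 200000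
set_option backward.isDefEq.respectTransparency false
set_option backward.isDefEq.respectTransparency.types false

universe u

open CategoryTheory CategoryTheory.Limits AlgebraicGeometry TopologicalSpace
open Groth.Agent

noncomputable section

namespace CdQLib

variable {k : Type u} [Field k] {n : ℕ}

/-- A hypersurface is the complement of the nonvanishing locus of its form. -/
theorem mem_basicOpen_iff {d : ℕ} (hd : 0 < d) (G : LefPen.Form n k d) (x : ↥(CohB1.ProjSpace n k)) :
    x ∈ Proj.basicOpen (CohB1.polyGrading n k) G.1 ↔ x ∉ (LefPen.hypIdeal G).support := by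
  refine ⟨fun hx hs => ?_, CIDivLib.not_mem_support_le hd G⟩
  obtain ⟨j, hj⟩ := Opens.mem_iSup.1
    ((QCohLib.iSup_stdOpen n k).ge (show x ∈ (⊤ : (CohB1.ProjSpace n k).Opens) from trivial))
  change x ∈ LefPen.chart n k j at hj
  rw [Scheme.IdealSheafData.mem_support_iff_of_mem (U := ⟨LefPen.chart n k j, CIGen.chart_affine j⟩) hj,
    CIGen.hypIdeal_chart, Scheme.zeroLocus_span, Scheme.mem_zeroLocus_iff] at hs
  refine hs _ (Set.mem_singleton _) ?_
  rw [← CIGen.dehom_eq]
  have h : LefPen.dehom G j = Proj.awayToSection (CohB1.polyGrading n k) (MvPolynomial.X j)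
    (HomogeneousLocalization.Away.mk (CohB1.polyGrading n k) (LefPen.X_mem n k j) d G.1
      (by rw [smul_eq_mul, mul_one]; exact G.2)) := rfl
  rw [h]
  refine (GrTildeLib.basicOpen_awayToSection (LefPen.X_mem n k j) one_pos _).ge ?_
  rw [Proj.basicOpen_mul]
  exact ⟨hj, hx⟩

variable (k n) in
/-- The complement of a set-theoretic complete intersection. -/
theorem cd_q_ci [IsAlgClosed k] (s : ℕ) (hs : s + 1 ≤ n)
    (a : Fin (n - s) → ℕ) (ha : ∀ j, 1 ≤ a j) (G : ∀ j : Fin (n - s), LefPen.Form n k (a j))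
    (hdim : topologicalKrullDim ((LefPen.ciIdeal G).support : Set (CohB1.ProjSpace n k)) = s)
    (U : (CohB1.ProjSpace n k).Opens)
    (hU : (U : Set (CohB1.ProjSpace n k)) = ((LefPen.ciIdeal G).support : Set (CohB1.ProjSpace n k))ᶜ) :
    (∀ F : (U : Scheme.{u}).Modules, Coh.IsCoh F → ∀ i : ℕ, n - s - 1 < i →
        Subsingleton (Coh.HH (U : Scheme.{u}) F i)) ∧
      ∃ F : (U : Scheme.{u}).Modules, Coh.IsCoh F ∧
        ¬ Module.Finite k (Coh.HH (U : Scheme.{u}) F (n - s - 1)) := by
  haveI : IsIntegral (CohB1.ProjSpace n k) := GenusZeroLib.isIntegral_projSpace k n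
  haveI : IsProper (CohB1.ProjSpace n k ↘ Spec (CommRingCat.of k)) := ProjDegLib.toSpec_isProper k n
  let W : Fin (n - s) → (CohB1.ProjSpace n k).Opens := fun j => Proj.basicOpen (CohB1.polyGrading n k) (G j).1
  have hW : ∀ j, IsAffineOpen (W j) := fun j => Proj.isAffineOpen_basicOpen _ _ (G j).2 (ha j)
  have hcov : ∀ x, x ∈ U ↔ ∃ j, x ∈ W j := fun x => by
    rw [← SetLike.mem_coe, hU, Set.mem_compl_iff, LefPen.ciIdeal, Scheme.IdealSheafData.support_iSup,
      Closeds.coe_iInf, Set.mem_iInter, not_forall]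
    exact exists_congr fun j => (mem_basicOpen_iff (ha j) (G j) x).symm
  have hvan : ∀ F : (U : Scheme.{u}).Modules, Coh.IsCoh F → ∀ i : ℕ, n - s - 1 < i →
      Subsingleton (Coh.HH (U : Scheme.{u}) F i) := fun F hF i hi => by
    let V : Fin (n - s - 1 + 1) → (U : Scheme.{u}).Opens := fun j => U.ι ⁻¹ᵁ W (Fin.cast (by omega) j)
    haveI : IsSeparated ((U : Scheme.{u}) ↘ Spec (CommRingCat.of k)) :=
      inferInstanceAs (IsSeparated (U.ι ≫ (CohB1.ProjSpace n k ↘ Spec (CommRingCat.of k))))
    refine RGammaBoundLib.subsingleton_HH_of_cover ((U : Scheme.{u}) ↘ Spec (CommRingCat.of k)) (n - s - 1) V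
      (fun j => (hW _).preimage_of_isOpenImmersion U.ι ?_) ?_ F hF.1 i hi
    · rw [Scheme.Opens.opensRange_ι]; exact fun x hx => (hcov x).2 ⟨_, hx⟩
    · refine Opens.ext (Set.eq_univ_of_forall fun x => ?_)
      obtain ⟨j, hj⟩ := (hcov x.1).1 x.2
      exact Opens.mem_iSup.2 ⟨Fin.cast (by omega) j, by simpa [V] using hj⟩
  refine ⟨hvan, ?_⟩
  by_contra hne
  push Not at hne
  have hY : ((U : Set (CohB1.ProjSpace n k))ᶜ) = ((LefPen.ciIdeal G).support : Set (CohB1.ProjSpace n k)) := by
    rw [hU, compl_compl]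
  obtain hcase | hcase : n - s - 1 = 0 ∨ 1 ≤ n - s - 1 := by omega
  · -- an affine open of positive dimension with finitely many functions
    have hUW : U = W ⟨0, by omega⟩ := Opens.ext (Set.ext fun x => (hcov x).trans
      ⟨fun ⟨j, hj⟩ => by rwa [show j = ⟨0, by omega⟩ from Fin.ext (by have := j.2; omega)] at hj,
        fun hx => ⟨_, hx⟩⟩)
    haveI : IsAffine (U : Scheme.{u}) := hUW ▸ hW _
    have hn : (U : Set (CohB1.ProjSpace n k)).Nonempty := by
      rw [Set.nonempty_iff_ne_empty, hU]
      intro he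
      rw [Set.compl_empty_iff] at he
      rw [he, (Homeomorph.Set.univ _).isHomeomorph.topologicalKrullDim_eq, GenusZeroLib.dim_projSpace] at hdim
      have : n = s := by exact_mod_cast hdim
      omega
    haveI := hne (Coh.structureModule _) (CurvLib.isCoh_of_isInvertible CurvLib.isInvertible_structureModule)
    rw [hcase] at this
    letI := GenusZeroLib.kmod k (Coh.structureModule (U : Scheme.{u}))
    haveI hfin : Module.Finite k Γ(Coh.structureModule (U : Scheme.{u}), ⊤) :=
      Module.Finite.equiv (GenusZeroLib.e0k k (Coh.structureModule (U : Scheme.{u})))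
    haveI : IsFinite ((U : Scheme.{u}) ↘ Spec (CommRingCat.of k)) := by
      refine (HasAffineProperty.iff_of_isAffine (P := @IsFinite)).mpr ⟨inferInstance, ?_⟩
      refine RingHom.Finite.of_comp_finite (f := (Scheme.ΓSpecIso (CommRingCat.of k)).inv.hom) ?_
      exact hfin
    have := IntMultLib.dim_le_zero_of_isFinite k (X := (U : Scheme.{u}))
    rw [show topologicalKrullDim (U : Scheme.{u}) = topologicalKrullDim U from rfl,
      VarDimLib.dim_open_eq (CohB1.ProjSpace n k ↘ Spec (CommRingCat.of k)) U hn, GenusZeroLib.dim_projSpace] at this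
    have : n ≤ 0 := by exact_mod_cast this
    omega
  · have hq : ∀ F : (U : Scheme.{u}).Modules, Coh.IsCoh F → ∀ i : ℕ, n - s - 2 < i →
        Module.Finite k (Coh.HH (U : Scheme.{u}) F i) := fun F hF i hi => by
      obtain h | h : i = n - s - 1 ∨ n - s - 1 < i := by omega
      · exact h ▸ hne F hF
      · haveI := hvan F hF i h
        infer_instance
    have hYne : ((U : Set (CohB1.ProjSpace n k))ᶜ).Nonempty := by
      rw [hY, Set.nonempty_iff_ne_empty]
      intro he
      haveI : IsEmpty (IrreducibleCloseds (∅ : Set (CohB1.ProjSpace n k))) :=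
        ⟨fun Z => Z.2.nonempty.some.2⟩
      rw [he, topologicalKrullDim, Order.krullDim_eq_bot] at hdim
      exact WithBot.bot_ne_coe hdim
    haveI : Nonempty ↥((U : Set (CohB1.ProjSpace n k))ᶜ) := hYne.to_subtype
    let y : ↥((U : Set (CohB1.ProjSpace n k))ᶜ) := Classical.arbitrary _
    have h := S11380.result k (CohB1.ProjSpace n k) CIDivLib.isRegular_stalk _
      (FormalCohLib.isAmple_twistProjSpace n k) n (GenusZeroLib.dim_projSpace k n) U (n - s - 2) hq
      (irreducibleComponent y) (irreducibleComponent_mem_irreducibleComponents y)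
    have hZ : topologicalKrullDim (irreducibleComponent y) ≤ (s : WithBot ℕ∞) := by
      refine (Topology.IsInducing.subtypeVal.topologicalKrullDim_le).trans ?_
      rw [hY, hdim]
    have h2 : (n : WithBot ℕ∞) ≤ ((s + (n - s - 2 + 1) : ℕ) : WithBot ℕ∞) := by
      rw [Nat.cast_add s]
      exact h.trans (by gcongr)
    have : n ≤ s + (n - s - 2 + 1) := by exact_mod_cast h2
    omega

end CdQLib
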