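import Groth.Agent.CdLefLib.Points
import Groth.Agent.AmpleSliceLib.Cut
import Groth.Agent.AmpleFinGenLib.Divisor
import Groth.Agent.CycBivLib.Avoid
import Groth.Agent.CurvLib.Finite0

/-!
# Cutting with divisors avoiding finitely many points
-/

set_option autoImplicit false
set_option linter.style.haveILetI false
set_option linter.unusedSectionVars false
set_option maxHeartbeats 1000000
set_option backward.isDefEq.respectTransparency false
set_option backward.isDefEq.respectTransparency.types false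

universe u

open CategoryTheory CategoryTheory.Limits AlgebraicGeometry TopologicalSpace
open TwistLib (genSet)

noncomputable section

namespace CdQLib

variable (k : Type u) [Field k] {X : Scheme.{u}} [X.Over (Spec (CommRingCat.of k))]
  [IsProper (X ↘ Spec (CommRingCat.of k))]

/-- The dimension of the closure of a point. -/
def dC (x : X) : ℕ := (CdLefLib.exists_dim_closure (k := k) x).choose

theorem dC_spec (x : X) : topologicalKrullDim ↥(closure ({x} : Set X)) = (dC k x : WithBot ℕ∞) :=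
  (CdLefLib.exists_dim_closure (k := k) x).choose_spec

theorem dC_le {T : Set X} {x : X} (hT : IsClosed T) (hx : x ∈ T) {e : ℕ} (he : topologicalKrullDim T ≤ (e : WithBot ℕ∞)) :
    dC k x ≤ e := by
  have h : topologicalKrullDim ↥(closure ({x} : Set X)) ≤ topologicalKrullDim T :=
    (Topology.IsEmbedding.inclusion (closure_minimal (Set.singleton_subset_iff.2 hx) hT)).isInducing.topologicalKrullDim_le
  rw [dC_spec k x] at h
  exact_mod_cast h.trans he

/-- A proper specialization has a smaller closure. -/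
theorem dC_lt {η x : X} (h : η ⤳ x) (hne : η ≠ x) : dC k x < dC k η := by
  let T : Set X := closure ({η} : Set X)
  haveI : IrreducibleSpace ↥T :=
    { toPreirreducibleSpace := Subtype.preirreducibleSpace isIrreducible_singleton.closure.2
      toNonempty := ⟨⟨η, subset_closure rfl⟩⟩ }
  have hxT : x ∈ T := specializes_iff_mem_closure.1 h
  let C : Set ↥T := (Subtype.val : ↥T → X) ⁻¹' closure ({x} : Set X)
  have hC : IsClosed C := isClosed_closure.preimage continuous_subtype_val
  have hne' : C ≠ Set.univ := fun hu => hne <| by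
    have h1 : (⟨η, subset_closure rfl⟩ : ↥T) ∈ C := hu ▸ trivial
    exact ((specializes_iff_mem_closure.2 h1).antisymm h).eq.symm
  have hCd : topologicalKrullDim C = topologicalKrullDim ↥(closure ({x} : Set X)) := by
    refine IsHomeomorph.topologicalKrullDim_eq (fun c : C => (⟨(c.1 : X), c.2⟩ : ↥(closure ({x} : Set X))))
      (isHomeomorph_iff_isEmbedding_surjective.2 ⟨?_, fun y => ?_⟩)
    · exact ((Topology.IsEmbedding.subtypeVal (p := fun x : X => x ∈ T)).comp
        (Topology.IsEmbedding.subtypeVal (p := fun c : ↥T => c ∈ C))).codRestrict (closure ({x} : Set X)) fun c => c.2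
    · exact ⟨⟨⟨y.1, closure_minimal (Set.singleton_subset_iff.2 hxT) isClosed_closure y.2⟩, y.2⟩, rfl⟩
  obtain ⟨e, he⟩ : ∃ e, dC k η = e := ⟨_, rfl⟩
  cases e with
  | zero =>
    exfalso
    have hd : topologicalKrullDim ↥T ≤ 0 := by rw [dC_spec k η, he]; exact le_rfl
    haveI : IsNoetherian X := CurvLib.isNoetherian k (X := X)
    obtain ⟨-, hc⟩ := CurvLib.finite_isClosed_of_dim_le_zero (X := X) isClosed_closure hd
    have := hc η (subset_closure rfl)
    exact hne (Set.mem_singleton_iff.1 (this.closure_eq.le hxT)).symm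
  | succ e =>
    haveI : T0Space ↥T := inferInstance
    have h1 := PnCohLib.dim_closed_le hC hne' (show topologicalKrullDim ↥T ≤ ((e + 1 : ℕ) : WithBot ℕ∞) by
      rw [dC_spec k η, he])
    rw [hCd, dC_spec k x] at h1
    have h2 : dC k x ≤ e := by exact_mod_cast h1
    omega

include k in
/-- Finitely many points from which everything in a closed set specializes. -/
theorem exists_gens {S : Set X} (hS : IsClosed S) :
    ∃ F : Set X, F.Finite ∧ F ⊆ S ∧ ∀ x ∈ S, ∃ η ∈ F, η ⤳ x := by
  haveI : IsNoetherian X := CurvLib.isNoetherian k (X := X)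
  obtain ⟨Cs, hfin, hcl, hirr, hS'⟩ := NoetherianSpace.exists_finite_set_isClosed_irreducible hS
  have key : ∀ t : Cs, ∃ η : X, IsGenericPoint η (t : Set X) := fun t => QuasiSober.sober (hirr t t.2) (hcl t t.2)
  choose g hg using key
  haveI := hfin.to_subtype
  refine ⟨Set.range g, Set.finite_range g, ?_, fun x hx => ?_⟩
  · rintro _ ⟨t, rfl⟩
    exact hS'.ge ⟨t, t.2, (hg t).mem⟩
  · obtain ⟨t, ht, hxt⟩ := hS'.le hx
    exact ⟨_, ⟨⟨t, ht⟩, rfl⟩, (hg ⟨t, ht⟩).specializes hxt⟩

/-- A component of the intersection with a divisor drops the dimension by at most one. -/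
theorem exists_component {D : X.IdealSheafData} (hD : BlowUp.IsEffCartierIdeal D) {η p : X} (hp : η ⤳ p)
    (hpD : p ∈ (D.support : Set X)) :
    ∃ ξ : X, η ⤳ ξ ∧ ξ ⤳ p ∧ ξ ∈ (D.support : Set X) ∧ dC k η ≤ dC k ξ + 1 := by
  haveI : IsNoetherian X := CurvLib.isNoetherian k (X := X)
  obtain ⟨U, hpU, g, -, hI⟩ := hD p
  let q := X ↘ Spec (CommRingCat.of k)
  let A := Γ(X, U.1)
  letI : Algebra k A := ((q.appLE ⊤ U.1 le_top).hom.comp
    (Scheme.ΓSpecIso (CommRingCat.of k)).inv.hom).toAlgebra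
  haveI : Algebra.FiniteType k A :=
    (q.finiteType_appLE (isAffineOpen_top _) U.2 le_top).comp (RingHom.FiniteType.of_surjective _
      (ConcreteCategory.bijective_of_isIso (Scheme.ΓSpecIso (CommRingCat.of k)).inv).2)
  have hηU : η ∈ U.1 := hp.mem_open U.1.2 hpU
  have hspec : ∀ a b : PrimeSpectrum A, a ≤ b ↔ U.2.fromSpec a ⤳ U.2.fromSpec b := fun a b => by
    rw [U.2.fromSpec.isOpenEmbedding.isInducing.specializes_iff, PrimeSpectrum.le_iff_specializes]
  have hin : ∀ y : PrimeSpectrum A, U.2.fromSpec y ∈ (D.support : Set X) ↔ D.ideal U ≤ y.asIdeal := fun y => by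
    have hy : U.2.fromSpec y ∈ U.1 := U.2.range_fromSpec.le ⟨y, rfl⟩
    refine (D.mem_support_iff_of_mem hy).trans ?_
    have h := congrArg (fun S : Set X => U.2.fromSpec y ∈ S) (U.2.fromSpec_image_zeroLocus (D.ideal U : Set A))
    refine Iff.trans ?_ (U.2.fromSpec.isOpenEmbedding.injective.mem_set_image (s := PrimeSpectrum.zeroLocus (D.ideal U : Set A)))
    exact ⟨fun h1 => h ▸ (⟨h1, hy⟩ : U.2.fromSpec y ∈ X.zeroLocus (U := U.1) (D.ideal U) ∩ U.1), fun h1 => (h.mp h1).1⟩
  let P := U.2.primeIdealOf ⟨η, hηU⟩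
  let Q := U.2.primeIdealOf ⟨p, hpU⟩
  have hPQ : P.asIdeal ≤ Q.asIdeal := (hspec P Q).2 (by
    rw [U.2.fromSpec_primeIdealOf, U.2.fromSpec_primeIdealOf]; exact hp)
  have hDQ : D.ideal U ≤ Q.asIdeal := (hin Q).1 (by rw [U.2.fromSpec_primeIdealOf]; exact hpD)
  haveI := Q.2
  haveI := P.2
  haveI : IsNoetherianRing A := Algebra.FiniteType.isNoetherianRing k A
  let B := A ⧸ P.asIdeal
  let π := Ideal.Quotient.mk P.asIdeal
  let J : Ideal B := Ideal.span {π g}
  let Qb : Ideal B := Q.asIdeal.map π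
  haveI : Qb.IsPrime := Ideal.map_isPrime_of_surjective Ideal.Quotient.mk_surjective (by rw [Ideal.mk_ker]; exact hPQ)
  have hgQ : g ∈ Q.asIdeal := hDQ (by rw [hI]; exact Ideal.mem_span_singleton_self g)
  have hJQ : J ≤ Qb := (Ideal.span_singleton_le_iff_mem _).2 (Ideal.mem_map_of_mem π hgQ)
  obtain ⟨R, hR, hRQ⟩ := Ideal.exists_minimalPrimes_le hJQ
  haveI : R.IsPrime := hR.1.1
  haveI : IsNoetherianRing B := inferInstance
  have hht : R.height ≤ 1 := Ideal.height_le_one_of_isPrincipal_of_mem_minimalPrimes J R hR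
  let r : PrimeSpectrum A := ⟨R.comap π, Ideal.comap_isPrime π R⟩
  have hPr : P.asIdeal ≤ r.asIdeal := fun a ha => by
    show π a ∈ R
    rw [Ideal.Quotient.eq_zero_iff_mem.2 ha]
    exact R.zero_mem
  have hrQ : r.asIdeal ≤ Q.asIdeal := fun a ha => by
    have h1 : π a ∈ Qb := hRQ ha
    rw [Ideal.mem_map_iff_of_surjective π Ideal.Quotient.mk_surjective] at h1
    obtain ⟨b, hb, hab⟩ := h1
    have := Ideal.Quotient.eq.1 hab
    simpa using Q.asIdeal.sub_mem hb (hPQ this)
  refine ⟨U.2.fromSpec r, ?_, ?_, (hin r).2 ?_, ?_⟩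
  · have := (hspec P r).1 hPr
    rwa [U.2.fromSpec_primeIdealOf] at this
  · have := (hspec r Q).1 hrQ
    rwa [U.2.fromSpec_primeIdealOf] at this
  · rw [hI, Ideal.span_singleton_le_iff_mem]
    exact hR.1.2 (Ideal.mem_span_singleton_self _)
  · have hy : U.2.fromSpec r ∈ U.1 := U.2.range_fromSpec.le ⟨r, rfl⟩
    have hpr : U.2.primeIdealOf ⟨U.2.fromSpec r, hy⟩ = r :=
      U.2.fromSpec.isOpenEmbedding.injective (U.2.fromSpec_primeIdealOf ⟨_, hy⟩)
    have h1 := FibDimLib.topologicalKrullDim_closure_eq_affine q U.2 hηU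
    have h2 := FibDimLib.topologicalKrullDim_closure_eq_affine q U.2 hy
    rw [dC_spec k] at h1 h2
    rw [hpr] at h2
    have hform := FibDimLib.ringKrullDim_quotient_add_height_affine (k := k) B R
    have e : (A ⧸ r.asIdeal) ≃+* (B ⧸ R) := by
      refine ((Ideal.quotEquivOfEq ?_).trans (DoubleQuot.quotQuotEquivQuotOfLE hPr).symm).trans (Ideal.quotEquivOfEq ?_)
      · rfl
      · exact Ideal.map_comap_of_surjective π Ideal.Quotient.mk_surjective R
    rw [← ringKrullDim_eq_of_ringEquiv e, ← h2] at hform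
    change _ = ringKrullDim (A ⧸ P.asIdeal) at hform
    rw [← h1] at hform
    obtain ⟨h', hh'⟩ := ENat.ne_top_iff_exists.mp (ne_top_of_le_ne_top ENat.one_ne_top hht)
    rw [← hh'] at hform hht
    have h3 : dC k (U.2.fromSpec r) + h' = dC k η := by exact_mod_cast hform
    have h4 : h' ≤ 1 := by exact_mod_cast hht
    omega

variable [IsIntegral X]

include k

/-- A divisor avoiding finitely many points and meeting every positive dimensional closed set. -/
theorem exists_divisor {A : X.Modules} (hA : CohB1.IsAmple A) {F : Set X} (hF : F.Finite) :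
    ∃ D : X.IdealSheafData, BlowUp.IsEffCartierIdeal D ∧ Disjoint F (D.support : Set X) ∧
      ∀ (T : Set X), IsClosed T → ∀ (r : ℕ), ((r + 1 : ℕ) : WithBot ℕ∞) ≤ topologicalKrullDim T →
        ((r : ℕ) : WithBot ℕ∞) ≤ topologicalKrullDim ↥(T ∩ (D.support : Set X)) := by
  haveI : IsNoetherian X := CurvLib.isNoetherian k (X := X)
  haveI := (DevissLib.isCoh_structureModule X).1
  let W := {x : X | x ∈ (⊤ : X.Opens) ∧ Curv2.IsWeakAssPoint (Coh.structureModule X) x}
  have hW : W.Finite := AssPointLib.finite_assPoints (DevissLib.isCoh_structureModule X).2 ⊤ (NoetherianSpace.isCompact _)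
  let F' : Set X := F ∪ W
  let F₀ : Set X := {z ∈ F' | ∀ z' ∈ F', z ⤳ z' → z' = z}
  have hF₀ : F₀.Finite := (hF.union hW).subset fun z hz => hz.1
  obtain ⟨n, σ, hn, hσ⟩ := CycBivLib.exists_isolating hA hF₀ fun z hz z' hz' h => (hz'.2 z hz.1 h).symm
  obtain ⟨hN, τ, hτ⟩ := CycBivLib.avoids_pow hA.1 hF₀ hσ
  have hτ' : ∀ z ∈ F', z ∈ genSet hN τ := fun z hz => by
    obtain ⟨z', ⟨hz', hzz'⟩, hmax⟩ := Set.Finite.exists_minimalFor (fun w => dC k w) {w ∈ F' | z ⤳ w}
      ((hF.union hW).subset fun w hw => hw.1) ⟨z, hz, specializes_rfl⟩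
    have hz0 : z' ∈ F₀ := ⟨hz', fun w hw hzw => by
      by_contra hne
      exact absurd (hmax ⟨hw, hzz'.trans hzw⟩ (dC_lt k hzw (Ne.symm hne)).le) (not_le.2 (dC_lt k hzw (Ne.symm hne)))⟩
    exact hzz'.mem_open (genSet hN τ).2 (hτ hz0)
  let s : Coh.structureModule X ⟶ CohB1.tensorPow A n := (KFlatLib.unitSecEquiv _).symm τ
  have hs : s.app ⊤ (1 : Γ(X, ⊤)) = τ := by
    refine Eq.trans ?_ ((KFlatLib.unitSecEquiv _).apply_symm_apply τ)
    rfl
  have hgen : CohB1.genLocus (CohB1.tensorPow A n) s = genSet hN τ := by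
    rw [AmpleThLib.genLocus_hom hN, hs]
  haveI : Mono s := AmpleFinGenLib.mono_of_generating hN s fun x hx => by
    rw [hgen]; exact hτ' x (Or.inr ⟨trivial, hx⟩)
  have hsupp : ((PicF2.zeroScheme _ s).support : Set X) = (genSet hN τ : Set X)ᶜ := by
    ext x
    rw [Set.mem_compl_iff, ← hgen]
    exact (iff_not_comm.1 (AmpleFinGenLib.notMem_support_zeroScheme hN s x).symm)
  refine ⟨_, AmpleFinGenLib.isEffCartier_zeroScheme hN s, Set.disjoint_left.2 fun z hz hz' => ?_, fun T hT r hr => ?_⟩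
  · rw [hsupp] at hz'
    exact hz' (hτ' z (Or.inl hz))
  · refine (AmpleSliceLib.dim_cut (X ↘ Spec (CommRingCat.of k)) hN
      ((AmpleThLib.isAmple_tensorPow_iff (hL := hA.1) hn).1 hA) τ hT hr).trans (le_of_eq ?_)
    rw [hsupp, Set.diff_eq]

end CdQLib
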