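import Groth.Agent.CdFiniteLib.Main
import Groth.Agent.EssZeroLib.Limit
import Groth.Agent.LichtLib.BijOn

/-!
# Classes on the open detecting a quotient supported on the complement
-/

set_option autoImplicit false
set_option linter.style.haveILetI false
set_option linter.unusedSectionVars false
set_option maxHeartbeats 1000000
set_option synthInstance.maxHeartbeats 200000
set_option backward.isDefEq.respectTransparency false
set_option backward.isDefEq.respectTransparency.types false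

universe u

open CategoryTheory CategoryTheory.Limits AlgebraicGeometry TopologicalSpace DerivedCategory Abelian
open Groth.Agent

attribute [local instance] HasDerivedCategory.standard

noncomputable section

namespace CdQLib

variable {k : Type u} [Field k] {X : Scheme.{u}} [X.Over (Spec (CommRingCat.of k))]
  [IsProper (X ↘ Spec (CommRingCat.of k))] {U : X.Opens}

/-- A class on a coherent module which restricts to zero on `U` dies on some `I^b M`. -/
theorem exists_kill_of_restr_eq_zero {𝓘 : X.IdealSheafData} (hU : (U : Set X) = (𝓘.support : Set X)ᶜ)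
    {M ω : X.Modules} (hM : Coh.IsCoh M) (hω : Coh.IsCoh ω) (j : ℕ)
    (φ : DCoh.inD X M ⟶ (DCoh.inD X ω)⟦(j : ℤ)⟧) (h : CdFiniteLib.restr (k := k) U M ω j φ = 0) :
    ∃ b : ℕ, (singleFunctor X.Modules 0).map (Dual3.idealMulι (𝓘 ^ b) M) ≫ φ = 0 := by
  haveI : IsNoetherian X := CurvLib.isNoetherian k (X := X)
  haveI : IsNoetherian (U : Scheme.{u}) := Groth.Agent.LocImmLib.isNoetherian_opens U
  let R := Scheme.Modules.restrictFunctor U.ι
  let e₁ := (R.mapDerivedCategorySingleFunctor 0).app M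
  let e₂ := ((DCoh.restrictD U.ι).commShiftIso (j : ℤ)).app (DCoh.inD X ω) ≪≫
      (shiftFunctor _ (j : ℤ)).mapIso ((R.mapDerivedCategorySingleFunctor 0).app ω)
  have h' : e₁.inv ≫ (DCoh.restrictD U.ι).map φ ≫ e₂.hom = 0 := h
  have hφ : (DCoh.restrictD U.ι).map φ = 0 := by
    rw [← cancel_epi e₁.inv, ← cancel_mono e₂.hom, Category.assoc, h', comp_zero, zero_comp]
  have hI : 𝓘.supportSetᶜ = Set.range U.ι := (U.range_ι.trans hU).symm
  let C₀ := (HomologicalComplex.single X.Modules (ComplexShape.up ℤ) 0).obj M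
  have hC₀ : DCoh.VanishesOutside C₀ 0 0 := fun q hq =>
    HomologicalComplex.isZero_single_obj_X _ _ _ _ (by omega)
  have hC₀c : ∀ q, Coh.IsCoh (C₀.X q) := fun q => by
    rcases eq_or_ne q 0 with rfl | hq
    · exact QCohLib.isCoh_of_iso (HomologicalComplex.singleObjXSelf _ 0 M).symm hM
    · exact DevissLib.isCoh_of_isZero (HomologicalComplex.isZero_single_obj_X _ _ _ _ hq)
  have hL : DCoh.IsCohD ((DCoh.inD X ω)⟦(j : ℤ)⟧) := Dual3Lib.isCohD_shift (HTorCohLib.isCohD_inD hω) _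
  have hge : ∀ i : ℤ, i < -(j : ℤ) → IsZero (DCoh.HD ((DCoh.inD X ω)⟦(j : ℤ)⟧) i) := fun i hi => by
    haveI : DerivedCategory.IsGE ((DCoh.inD X ω)⟦(j : ℤ)⟧) (-(j : ℤ)) :=
      DerivedCategory.TStructure.t.isGE_shift (DCoh.inD X ω) 0 (j : ℤ) (-(j : ℤ)) (by omega)
    exact DerivedCategory.isZero_of_isGE _ (-(j : ℤ)) i hi
  let σ := (DerivedCategory.singleFunctorIsoCompQ X.Modules 0).app M
  obtain ⟨b, -, ht⟩ := (Groth.Agent.S3664.result (U : Scheme.{u}) X U.ι 𝓘 hI C₀ 0 0 hC₀ hC₀c _ hL (-(j : ℤ)) hge).2 0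
    (DerivedCategory.Q.map (Dual3.deligneι 𝓘 0 C₀) ≫ σ.inv ≫ φ) 0
    (by rw [Functor.map_comp, Functor.map_comp, hφ, comp_zero, comp_zero, Functor.map_zero])
  refine ⟨b, ?_⟩
  let τ := (NatTrans.mapHomologicalComplex (CohDimFormalLib.deligneIncl 𝓘 (Nat.zero_le b)) (ComplexShape.up ℤ)).app C₀
  have hτ : τ ≫ Dual3.deligneι 𝓘 0 C₀ = Dual3.deligneι 𝓘 b C₀ :=
    HomologicalComplex.hom_ext _ _ fun q => CohExtLib.inclMul_ι (CohExtLib.pow_le_pow (Nat.zero_le b)) _
  have h1 := ht τ hτ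
  rw [comp_zero, ← Category.assoc, ← Functor.map_comp, hτ, ← Category.assoc] at h1
  erw [CdFiniteLib.deligneι_eq] at h1
  rw [Category.assoc] at h1
  rw [← cancel_epi (CohDimFormalLib.deligneIso 𝓘 M b).hom, comp_zero]
  exact h1

/-- The rank of the restriction bounds the sections of a quotient supported off `U`. -/
theorem rank_bound (n : ℕ) (hn : 1 ≤ n) {ω : X.Modules} (hω : Coh.IsCoh ω)
    (t : (Dual3Lib.uO X ⟶ (DCoh.inD X ω)⟦(n : ℤ)⟧) →ₗ[k] k)
    (hbij : ∀ G : X.Modules, Coh.IsQCoh G → ∀ (j m : ℤ) (h : j + m = (n : ℤ)),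
      Function.Bijective (FieldDualLib.pairing t G j m h))
    {𝓘 : X.IdealSheafData} (hU : (U : Set X) = (𝓘.support : Set X)ᶜ)
    {M G : X.Modules} (hM : Coh.IsCoh M) (hG : Coh.IsCoh G) (ι : M ⟶ G) [Mono ι]
    (hsurj : ∀ b : ℕ, Function.Surjective (CurvLib.hMap (k := k)
      (cokernel.map (Dual3.idealMulι (𝓘 ^ b) M ≫ ι) ι (Dual3.idealMulι (𝓘 ^ b) M) (𝟙 G) (Category.comp_id _)) 0))
    [Module.Finite k (DCoh.inD _ ((Scheme.Modules.restrictFunctor U.ι).obj M) ⟶
      (DCoh.inD _ ((Scheme.Modules.restrictFunctor U.ι).obj ω))⟦((n - 1 : ℕ) : ℤ)⟧)] :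
    Module.finrank k (Coh.HH X (cokernel ι) 0) ≤
      Module.finrank k (DCoh.inD _ ((Scheme.Modules.restrictFunctor U.ι).obj M) ⟶
        (DCoh.inD _ ((Scheme.Modules.restrictFunctor U.ι).obj ω))⟦((n - 1 : ℕ) : ℤ)⟧) +
      Module.finrank k (Coh.HH X G 0) := by
  haveI : IsNoetherian X := CurvLib.isNoetherian k (X := X)
  haveI : EnoughInjectives X.Modules := ModSiteLib.sheafOfModules_enoughInjectives (R := X.ringCatSheaf)
  haveI : HasExt.{u} X.Modules := hasExt_of_enoughInjectives.{u} _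
  have hS : (ShortComplex.mk ι (cokernel.π ι) (cokernel.condition ι)).ShortExact :=
    ShortComplex.ShortExact.mk (ShortComplex.exact_cokernel ι)
  haveI := CurvLib.finite_HH (k := k) hG 0
  haveI := CurvLib.finite_HH (k := k) hM 1
  haveI := CurvLib.finite_HH (k := k) (QCohLib.isCoh_cokernel ι hM.1 hG) 0
  let δ : Coh.HH X (cokernel ι) 0 →ₗ[k] Coh.HH X M 1 := CurvLib.hDel (k := k) hS 0
  have h1 := LinearMap.finrank_range_add_finrank_ker δ
  have h2 : Module.finrank k (LinearMap.ker δ) ≤ Module.finrank k (Coh.HH X G 0) := by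
    refine le_trans (Submodule.finrank_mono (CurvLib.exact₃ (k := k) hS 0).ge) ?_
    exact LinearMap.finrank_range_le _
  have hjm : ((n - 1 : ℕ) : ℤ) + ((1 : ℕ) : ℤ) = (n : ℤ) := by omega
  let eH := FieldDualLib.homEquivHH (k := k) M 1
  let P := FieldDualLib.pairing t M _ _ hjm
  haveI : Module.Finite k (Dual3Lib.uO X ⟶ (DCoh.inD X M)⟦((1 : ℕ) : ℤ)⟧) := Module.Finite.equiv eH.symm
  haveI : Module.Finite k (DCoh.inD X M ⟶ (DCoh.inD X ω)⟦((n - 1 : ℕ) : ℤ)⟧) :=
    Module.Finite.of_injective P (hbij M hM.1 _ _ hjm).1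
  let Δ : Submodule k (Dual3Lib.uO X ⟶ (DCoh.inD X M)⟦((1 : ℕ) : ℤ)⟧) := (LinearMap.range δ).map eH.symm.toLinearMap
  have hΔ : Module.finrank k Δ = Module.finrank k (LinearMap.range δ) := LinearEquiv.finrank_map_eq eH.symm _
  let Φ : (DCoh.inD X M ⟶ (DCoh.inD X ω)⟦((n - 1 : ℕ) : ℤ)⟧) →ₗ[k] Module.Dual k Δ := Δ.subtype.dualMap ∘ₗ P
  have hΦ : Function.Surjective Φ :=
    (LinearMap.dualMap_surjective_of_injective Δ.injective_subtype).comp (hbij M hM.1 _ _ hjm).2
  let L := CdFiniteLib.restr (k := k) U M ω (n - 1)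
  have hker : LinearMap.ker L ≤ LinearMap.ker Φ := fun φ hφ => by
    obtain ⟨b, hb⟩ := exists_kill_of_restr_eq_zero hU hM hω _ φ hφ
    let μ := Dual3.idealMulι (𝓘 ^ b) M
    haveI : Mono μ := Dual3.mono_idealMulι _ _
    haveI : Mono (μ ≫ ι) := mono_comp μ ι
    have hS' : (ShortComplex.mk (μ ≫ ι) (cokernel.π (μ ≫ ι)) (cokernel.condition _)).ShortExact :=
      ShortComplex.ShortExact.mk (ShortComplex.exact_cokernel _)
    refine LinearMap.mem_ker.2 (LinearMap.ext fun ⟨y, hy⟩ => ?_)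
    obtain ⟨_, ⟨c, rfl⟩, rfl⟩ := hy
    obtain ⟨c', rfl⟩ := hsurj b c
    show P φ (eH.symm (δ _)) = 0
    let φs : ShortComplex.mk (μ ≫ ι) (cokernel.π (μ ≫ ι)) (cokernel.condition _) ⟶
        ShortComplex.mk ι (cokernel.π ι) (cokernel.condition ι) :=
      ShortComplex.homMk μ (𝟙 G) (cokernel.map (μ ≫ ι) ι μ (𝟙 G) (Category.comp_id _))
        (Category.comp_id _).symm (by rw [Category.id_comp]; exact (cokernel.π_desc _ _ _).symm.trans rfl)
    have hnat := (EssZeroLib.hDel_natural (k := k) hS' hS φs 0 c').symm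
    let y' := (FieldDualLib.homEquivHH (k := k) ((Dual3.idealMul (𝓘 ^ b)).obj M) 1).symm
      (CurvLib.hDel (k := k) hS' 0 c')
    have hy' : eH.symm (δ (CurvLib.hMap (k := k) (cokernel.map (μ ≫ ι) ι μ (𝟙 G) (Category.comp_id _)) 0 c')) =
        y' ≫ (shiftFunctor (DCoh.D X) ((1 : ℕ) : ℤ)).map ((singleFunctor X.Modules 0).map μ) := by
      refine eH.injective ?_
      rw [LinearEquiv.apply_symm_apply, FieldDualLib.homEquivHH_natural, LinearEquiv.apply_symm_apply]
      first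
        | exact hnat
        | exact hnat.symm
    rw [hy', ← FieldDualLib.pairing_natural, hb, map_zero]
    rfl
  have h3 := LinearMap.finrank_range_add_finrank_ker L
  have h4 := LinearMap.finrank_range_add_finrank_ker Φ
  rw [LinearMap.range_eq_top.2 hΦ, finrank_top, Subspace.dual_finrank_eq, hΔ] at h4
  have h5 : Module.finrank k (LinearMap.ker L) ≤ Module.finrank k (LinearMap.ker Φ) := Submodule.finrank_mono hker
  have h6 : Module.finrank k (LinearMap.range L) ≤ Module.finrank k (DCoh.inD _ ((Scheme.Modules.restrictFunctor U.ι).obj M) ⟶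
      (DCoh.inD _ ((Scheme.Modules.restrictFunctor U.ι).obj ω))⟦((n - 1 : ℕ) : ℤ)⟧) := Submodule.finrank_le _
  omega

end CdQLib
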