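import Groth.Agent.CdQLib.Step
import Groth.Agent.CdQLib.Rank
import Groth.Agent.CurvLib.Finite0
import Groth.Agent.LichtLib.Quasi
import Groth.Agent.Ref1Lib.Ops

/-!
# Quotients with unboundedly many sections supported at finitely many points
-/

set_option autoImplicit false
set_option linter.style.haveILetI false
set_option linter.unusedSectionVars false
set_option maxHeartbeats 1000000
set_option synthInstance.maxHeartbeats 200000
set_option backward.isDefEq.respectTransparency false
set_option backward.isDefEq.respectTransparency.types false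

universe u

open CategoryTheory CategoryTheory.Limits AlgebraicGeometry TopologicalSpace
open Groth.Agent
open DevissLib (St gm gm_app gm_map)

noncomputable section

namespace CdQLib

variable {X : Scheme.{u}}

/-- No sections over an open missing the support. -/
theorem section_eq_zero_of_support {M : X.Modules} {V : X.Opens} (hV : ∀ y ∈ V, y ∉ CohB1.support M)
    (s : Γ(M, V)) : s = 0 := by
  refine TopCat.Presheaf.section_ext ((QCohLib.toAbF X).obj M : TopCat.Sheaf AddCommGrpCat X.toTopCat) V _ _
    fun y hy => ?_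
  have : Subsingleton (M.presheaf.stalk y) := not_not.mp (hV y hy)
  exact @Subsingleton.elim _ this _ _

/-- The cokernel is supported where the map is not bijective. -/
theorem support_cokernel_subset {A B : X.Modules} (φ : A ⟶ B) {V : X.Opens} (h : LichtLib.BijOn V φ) :
    CohB1.support (cokernel φ) ⊆ CohB1.support B ∩ (V : Set X)ᶜ := fun x hx =>
  ⟨DevissLib.support_epi (cokernel.π φ) hx, fun hxV => hx <| by
    haveI : Epi ((St x).map (cokernel.π φ)) := inferInstance
    have hs := (ModuleCat.epi_iff_surjective _).1 ‹Epi ((St x).map (cokernel.π φ))›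
    have hzero : ∀ b, ((St x).map (cokernel.π φ)).hom b = 0 := fun b => by
      obtain ⟨a, rfl⟩ := (h.stalk hxV).2 b
      have h1 := congrArg (fun ψ => ((St x).map ψ).hom a) (cokernel.condition φ)
      simp only [Functor.map_comp, Functor.map_zero] at h1
      exact h1
    refine ⟨fun a b => ?_⟩
    obtain ⟨a', rfl⟩ := hs a
    obtain ⟨b', rfl⟩ := hs b
    exact (hzero a').trans (hzero b').symm⟩

theorem isIso_restrict_of_bijOn {U V : X.Opens} {A B : X.Modules} {φ : A ⟶ B} (h : LichtLib.BijOn V φ) (hUV : U ≤ V) :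
    IsIso ((Scheme.Modules.restrictFunctor U.ι).map φ) :=
  (NatIso.isIso_map_iff (Scheme.Modules.restrictFunctorIsoPullback U.ι) φ).2
    ((LichtLib.bijOn_iff_isIso_pullback U φ).1 (h.mono hUV))

variable {k : Type u} [Field k] [X.Over (Spec (CommRingCat.of k))]
  [IsProper (X ↘ Spec (CommRingCat.of k))]

theorem dim_le_zero_of_finite {S : Set X} (hS : S.Finite) (hSc : ∀ x ∈ S, IsClosed ({x} : Set X)) :
    topologicalKrullDim ↥S ≤ 0 := by
  haveI : Finite ↥S := hS.to_subtype
  haveI : DiscreteTopology ↥S := by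
    haveI : T1Space ↥S := ⟨fun x => by
      have h : ({x} : Set ↥S) = Subtype.val ⁻¹' ({x.1} : Set X) := by
        ext z; simp [Subtype.ext_iff]
      rw [h]
      exact (hSc _ x.2).preimage continuous_subtype_val⟩
    infer_instance
  exact topologicalKrullDim_zero_of_discreteTopology _

/-- Sections lift to a quotient supported at finitely many points isolated in the support. -/
theorem surjective_hMap_of_isolated {A B : X.Modules} (hA : Coh.IsCoh A) (hB : Coh.IsCoh B) (π : A ⟶ B) [Epi π]
    {S : Set X} (hS : S.Finite) (hSc : ∀ x ∈ S, IsClosed ({x} : Set X)) (W : X.Opens) (hSW : S ⊆ (W : Set X))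
    (hAW : ∀ x ∈ CohB1.support A, x ∈ W → x ∈ S) (hBS : CohB1.support B ⊆ S) :
    Function.Surjective (CurvLib.hMap (k := k) π 0) := by
  haveI : IsNoetherian X := CurvLib.isNoetherian k (X := X)
  have hScl : IsClosed S := by
    rw [← Set.biUnion_of_singleton S]
    exact hS.isClosed_biUnion hSc
  let V : X.Opens := ⟨Sᶜ, hScl.isOpen_compl⟩
  let r := LichtLib.toRestr A V
  haveI := hA.1
  haveI : Coh.IsQCoh ((Coh.push V.ι).obj (A.restrict V.ι)) := QCohLib.isQCoh_pushforward V.ι (A.restrict V.ι)
  let A' := kernel r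
  have hA' : Coh.IsCoh A' := QCohLib.isCoh_kernel r hA inferInstance
  have hsupp : CohB1.support A' ⊆ S := fun x hx => by
    by_contra hxS
    have hbij : LichtLib.BijOn V r := by
      rw [LichtLib.bijOn_iff_isIso_pullback, ← NatIso.isIso_map_iff (Scheme.Modules.restrictFunctorIsoPullback V.ι) r]
      have h1 := (Scheme.Modules.restrictAdjunction V.ι).left_triangle_components A
      haveI : IsIso ((Scheme.Modules.restrictAdjunction V.ι).counit.app ((Scheme.Modules.restrictFunctor V.ι).obj A)) :=
        inferInstance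
      haveI : IsIso ((Scheme.Modules.restrictFunctor V.ι).map r ≫
          (Scheme.Modules.restrictAdjunction V.ι).counit.app ((Scheme.Modules.restrictFunctor V.ι).obj A)) := by
        erw [h1]
        exact IsIso.id _
      exact IsIso.of_isIso_comp_right _ ((Scheme.Modules.restrictAdjunction V.ι).counit.app ((Scheme.Modules.restrictFunctor V.ι).obj A))
    exact DevissLib.notMem_support_kernel r x (hbij.stalk hxS).1 hx
  have hzero : ∀ x ∈ S, ∀ a, ((St x).map r).hom a = 0 := fun x hx a => by
    obtain ⟨O, hO, s, rfl⟩ := DevissLib.exists_gm_eq A x a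
    have hO' : x ∈ O ⊓ W := ⟨hO, hSW hx⟩
    rw [← gm_map A (inf_le_left : O ⊓ W ≤ O) x hO', gm_app]
    have hz : r.app (O ⊓ W) (A.presheaf.map (homOfLE (inf_le_left : O ⊓ W ≤ O)).op s) = 0 :=
      section_eq_zero_of_support (M := A) (V := V.ι ''ᵁ V.ι ⁻¹ᵁ (O ⊓ W)) (fun y hy hy' => by
        obtain ⟨z, hz, rfl⟩ := hy
        exact z.2 (hAW _ hy' hz.2)) _
    rw [hz]
    exact DevissLib.gm_zero _ x _
  have hepi : Epi (kernel.ι r ≫ π) := by
    refine Preadditive.epi_of_cokernel_zero ((DevissLib.isZero_of_support_empty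
      (Set.eq_empty_of_forall_notMem fun x hx => ?_)).eq_of_tgt _ _)
    have hxS : x ∈ S := hBS (DevissLib.support_epi (cokernel.π (kernel.ι r ≫ π)) hx)
    apply hx
    have hex := ((ShortComplex.exact_kernel r).map (St x))
    haveI : Epi ((St x).map π) := inferInstance
    have hπ := (ModuleCat.epi_iff_surjective _).1 ‹Epi ((St x).map π)›
    haveI : Epi ((St x).map (cokernel.π (kernel.ι r ≫ π))) := inferInstance
    have hc := (ModuleCat.epi_iff_surjective _).1 ‹Epi ((St x).map (cokernel.π (kernel.ι r ≫ π)))›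
    have h0 : ∀ b, ((St x).map (cokernel.π (kernel.ι r ≫ π))).hom b = 0 := fun b => by
      obtain ⟨a, rfl⟩ := hπ b
      obtain ⟨a', rfl⟩ := (ShortComplex.moduleCat_exact_iff _).1 hex a (hzero x hxS a)
      have h2 := congrArg (fun ψ => ((St x).map ψ).hom a') (cokernel.condition (kernel.ι r ≫ π))
      simp only [Functor.map_comp, Functor.map_zero] at h2
      exact h2
    refine ⟨fun a b => ?_⟩
    obtain ⟨a', rfl⟩ := hc a
    obtain ⟨b', rfl⟩ := hc b
    exact (h0 a').trans (h0 b').symm
  let K := kernel (kernel.ι r ≫ π)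
  have hK : Coh.IsCoh K := QCohLib.isCoh_kernel _ hA' hB.1
  haveI : Subsingleton (Coh.HH X K 1) := CurvLib.subsingleton_HH_of_support K hScl
    ((DevissLib.support_mono (kernel.ι _)).trans hsupp) (d := 0) (by exact_mod_cast dim_le_zero_of_finite hS hSc)
    1 one_pos
  have hSK : (ShortComplex.mk _ _ (kernel.condition (kernel.ι r ≫ π))).ShortExact :=
    ShortComplex.ShortExact.mk (ShortComplex.exact_kernel _)
  intro y
  obtain ⟨z, hz⟩ := (CurvLib.exact₃ (k := k) hSK 0).ge (LinearMap.mem_ker.2 (Subsingleton.elim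
    (α := Coh.HH X K 1) (CurvLib.hDel (k := k) hSK 0 y) 0))
  exact ⟨CurvLib.hMap (k := k) (kernel.ι r) 0 z, by rw [← CurvLib.hMap_comp]; exact hz⟩

/-- Submodules, equal off `Z`, with quotients having arbitrarily many sections. -/
theorem exists_quotient_sections [IsIntegral X] {G : X.Modules} (hG : Coh.IsCoh G) (I : X.IdealSheafData)
    {S : Set X} (hS : S.Finite) (hSc : ∀ x ∈ S, IsClosed ({x} : Set X))
    (hGI : CohB1.support G ∩ (I.support : Set X) ⊆ S) {y η : X} (hy : y ∈ (I.support : Set X))
    (hη : η ∈ CohB1.support G) (hηI : η ∉ (I.support : Set X)) (hηy : η ⤳ y) (b : ℕ) :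
    ∃ (M : X.Modules) (ι : M ⟶ G), Mono ι ∧ Coh.IsCoh M ∧
      LichtLib.BijOn (⟨(I.support : Set X)ᶜ, I.support.isClosed.isOpen_compl⟩ : X.Opens) ι ∧
      b ≤ Module.finrank k (Coh.HH X (cokernel ι) 0) := by
  haveI : IsNoetherian X := CurvLib.isNoetherian k (X := X)
  let V : X.Opens := ⟨(I.support : Set X)ᶜ, I.support.isClosed.isOpen_compl⟩
  induction b with
  | zero => exact ⟨G, 𝟙 G, inferInstance, hG, LichtLib.bijOn_of_isIso _ _, Nat.zero_le _⟩
  | succ b ih =>
    obtain ⟨M, ι, hι, hM, hbij, hb⟩ := ih
    haveI := hM.1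
    let T := CurvLib.tensorLeft' M
    haveI hTL : T.IsLeftAdjoint := (HomCohLib.homAdj M).isLeftAdjoint
    let e : M ≅ T.obj (Coh.structureModule X) :=
      (KFlatLib.tensUnitIso M).symm ≪≫ HilbPolyLib.swapIso (Coh.structureModule X) M
    let q : M ⟶ T.obj (ClSub.quotMod I) := e.hom ≫ T.map (ClSub.toSubscheme I)
    haveI := CurvLib.epi_toSubscheme I
    haveI : Epi q := epi_comp _ _
    have hQ : Coh.IsCoh (T.obj (ClSub.quotMod I)) := Ref1Lib.isCoh_tensor hM (CurvLib.isCoh_quotMod I)
    have hQsupp : CohB1.support (T.obj (ClSub.quotMod I)) = CohB1.support M ∩ (I.support : Set X) := support_cut hM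
    have hkbij : LichtLib.BijOn V (kernel.ι q) := fun W hW =>
      ⟨QCohLib.app_injective_of_mono (kernel.ι q) W, fun s => QCohLib.exists_of_app_eq_zero
        (S := ShortComplex.mk _ _ (kernel.condition q)) (ShortComplex.exact_kernel q) (inferInstanceAs (Mono (kernel.ι q))) s
        (section_eq_zero_of_support (fun z hz hz' => hW hz (hQsupp.le hz').2) _)⟩
    have hM' : Coh.IsCoh (kernel q) := QCohLib.isCoh_kernel q hM hQ.1
    haveI : Mono (kernel.ι q ≫ ι) := mono_comp _ _
    refine ⟨kernel q, kernel.ι q ≫ ι, inferInstance, hM', hkbij.comp hbij, ?_⟩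
    let π := cokernel.map (kernel.ι q ≫ ι) ι (kernel.ι q) (𝟙 G) (Category.comp_id _)
    have hπ : cokernel.π (kernel.ι q ≫ ι) ≫ π = cokernel.π ι := (cokernel.π_desc _ _ _).trans (Category.id_comp _)
    haveI : Epi (cokernel.π (kernel.ι q ≫ ι) ≫ π) := by rw [hπ]; infer_instance
    haveI : Epi π := epi_of_epi (cokernel.π (kernel.ι q ≫ ι)) π
    have hB' : CohB1.support (cokernel (kernel.ι q ≫ ι)) ⊆ S := fun x hx => by
      obtain ⟨h1, h2⟩ := support_cokernel_subset _ (hkbij.comp hbij) hx
      exact hGI ⟨h1, not_not.1 h2⟩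
    have hB'c := QCohLib.isCoh_cokernel (kernel.ι q ≫ ι) hM'.1 hG
    have hBc := QCohLib.isCoh_cokernel ι hM.1 hG
    have hB : CohB1.support (cokernel ι) ⊆ S := (DevissLib.support_epi π).trans hB'
    have hsurj : Function.Surjective (CurvLib.hMap (k := k) π 0) :=
      surjective_hMap_of_isolated hB'c hBc π hS hSc ⊤ (fun _ _ => trivial) (fun x hx _ => hB' hx) hB
    haveI := CurvLib.finite_HH (k := k) hB'c 0
    haveI := CurvLib.finite_HH (k := k) hBc 0
    have hlt : Module.finrank k (Coh.HH X (cokernel ι) 0) < Module.finrank k (Coh.HH X (cokernel (kernel.ι q ≫ ι)) 0) := by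
      refine lt_of_le_of_ne (LinearMap.finrank_le_finrank_of_surjective hsurj) fun heq => ?_
      have hinj : Function.Injective (CurvLib.hMap (k := k) π 0) :=
        (LinearMap.injective_iff_surjective_of_finrank_eq_finrank heq.symm).2 hsurj
      let K := kernel π
      have hK : Coh.IsCoh K := QCohLib.isCoh_kernel π hB'c hBc.1
      have hKd : topologicalKrullDim (CohB1.support K) ≤ 0 := dim_le_zero_of_finite
        (hS.subset ((DevissLib.support_mono (kernel.ι π)).trans hB'))
        fun x hx => hSc x (hB' (DevissLib.support_mono (kernel.ι π) hx))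
      have hSK : (ShortComplex.mk _ _ (kernel.condition π)).ShortExact :=
        ShortComplex.ShortExact.mk (ShortComplex.exact_kernel _)
      have hK0 : IsZero K := CurvLib.isZero_of_h0 (k := k) hK hKd (by
        haveI := CurvLib.finite_HH (k := k) hK 0
        haveI : Subsingleton (Coh.HH X K 0) := subsingleton_of_forall_eq 0 fun x => by
          refine CurvLib.injective₀ (k := k) hSK ?_
          rw [map_zero]
          refine hinj ?_
          rw [map_zero, ← CurvLib.hMap_comp, kernel.condition, EssZeroLib.hMap_zero]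
        exact Module.finrank_zero_of_subsingleton)
      haveI : Mono π := Preadditive.mono_of_kernel_zero (hK0.eq_of_src _ _)
      have h1 : ι ≫ cokernel.π (kernel.ι q ≫ ι) = 0 := by
        rw [← cancel_mono π, Category.assoc, hπ, cokernel.condition, zero_comp]
      haveI := hι
      obtain ⟨l, hl⟩ := (ShortComplex.exact_cokernel (kernel.ι q ≫ ι)).lift' ι h1
      have hl' : l ≫ kernel.ι q = 𝟙 M := by
        rw [← cancel_mono ι, Category.assoc, Category.id_comp]
        exact hl
      have hq0 : q = 0 := by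
        rw [← Category.id_comp q, ← hl', Category.assoc, kernel.condition, comp_zero]
      have hzero : IsZero (T.obj (ClSub.quotMod I)) := IsZero.of_epi_eq_zero q hq0
      have hyM : y ∈ CohB1.support M :=
        (hηy).mem_closed (QCohLib.isClosed_support M hM.2) fun hsub => hη <| by
          have h2 := (hbij.stalk (x := η) hηI).2
          exact @Function.Surjective.subsingleton _ _ _ hsub h2
      exact (DevissLib.support_of_isZero hzero).le (hQsupp.ge ⟨hyM, hy⟩)
    omega

end CdQLib
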