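import Groth.Agent.CdQLib.Lengths
import Groth.Agent.CdLefLib.Invert

/-!
# Components of the complement of an open with finite cohomology in high degrees
-/

set_option autoImplicit false
set_option linter.style.haveILetI false
set_option linter.unusedSectionVars false
set_option maxHeartbeats 1000000
set_option synthInstance.maxHeartbeats 200000
set_option backward.isDefEq.respectTransparency false
set_option backward.isDefEq.respectTransparency.types false

universe u

open CategoryTheory CategoryTheory.Limits AlgebraicGeometry TopologicalSpace DerivedCategory Abelian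
open Groth.Agent

attribute [local instance] HasDerivedCategory.standard

noncomputable section

namespace CdQLib

variable {k : Type u} [Field k] {X : Scheme.{u}} [X.Over (Spec (CommRingCat.of k))]
  [IsProper (X ↘ Spec (CommRingCat.of k))] [IsIntegral X]

/-- A closed set of dimension at least `r` has a point with closure of dimension at least `r`. -/
theorem exists_point_le_dC {T : Set X} (hT : IsClosed T) {r : ℕ} (h : (r : WithBot ℕ∞) ≤ topologicalKrullDim T) :
    ∃ x ∈ T, r ≤ dC k x := by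
  haveI : QuasiSober T := hT.isClosedEmbedding_subtypeVal.quasiSober
  obtain ⟨c, hc⟩ := FibDimLib.exists_specChain h
  have key : ∀ (m : ℕ) (hm : m ≤ r), m ≤ dC k (c ⟨r - m, by omega⟩ : X) := fun m => by
    induction m with
    | zero => exact fun _ => Nat.zero_le _
    | succ m ih =>
      intro hm
      have h1 : (c ⟨r - (m + 1), by omega⟩ : X) ⤳ (c ⟨r - m, by omega⟩ : X) :=
        (hc.2 _ _ (show (⟨r - (m + 1), by omega⟩ : Fin (r + 1)) ≤ ⟨r - m, by omega⟩ from by
          show r - (m + 1) ≤ r - m; omega)).map continuous_subtype_val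
      have h2 := dC_lt k h1 fun he => by
        have := congrArg Fin.val (hc.1 (Subtype.ext he))
        simp only at this
        omega
      have := ih (by omega)
      omega
  exact ⟨_, (c ⟨r - r, by omega⟩).2, key r le_rfl⟩

variable [IsAlgClosed k] {U : X.Opens} [HasExt.{u} (U : Scheme.{u}).Modules]

/-- The cuts. -/
theorem exists_cut_seq {A : X.Modules} (hA : CohB1.IsAmple A) {ω : X.Modules} (hω : Coh.IsCoh ω) {n r d : ℕ}
    (hdim : topologicalKrullDim X = n)
    (hq : ∀ F : (U : Scheme.{u}).Modules, Coh.IsCoh F → ∀ i : ℕ, r < i →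
      Module.Finite k (Coh.HH (U : Scheme.{u}) F i))
    {Z Z' : Set X} (hZ : IsClosed Z) (hZ' : IsClosed Z') {w₀ : X} (hw₀ : w₀ ∈ Z) (hw₀' : w₀ ∉ Z')
    (hgen : ∀ x ∈ Z, w₀ ⤳ x) (hd : dC k w₀ = d) :
    ∀ j : ℕ, j ≤ d → ∃ (G : X.Modules) (η w : X), Coh.IsCoh G ∧ FinExt k U ω G (r + j) ∧ η ⤳ w ∧
      η ∈ CohB1.support G ∧ w ∈ Z ∧ n ≤ dC k η + j ∧ d ≤ dC k w + j ∧
      (∀ x ∈ CohB1.support G ∩ Z, dC k x + j ≤ d) ∧ ∀ x ∈ CohB1.support G ∩ (Z ∩ Z'), dC k x + j < d := by
  haveI : IsNoetherian X := CurvLib.isNoetherian k (X := X)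
  intro j
  induction j with
  | zero =>
    intro _
    refine ⟨Coh.structureModule X, genericPoint X, w₀, DevissLib.isCoh_structureModule X,
      finExt_base hω hq, (genericPoint_spec X).specializes trivial, ?_, hw₀, ?_, by omega, fun x hx => ?_, fun x hx => ?_⟩
    · intro hs
      have h1 := CurvLib.support_quotMod_subset (⊤ : X.IdealSheafData)
      obtain ⟨e⟩ := AVAmpleLib.nonempty_stalk_structureModule X (genericPoint X)
      exact not_subsingleton_iff_nontrivial.2 (inferInstance : Nontrivial (X.presheaf.stalk (genericPoint X)))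
        (e.toEquiv.subsingleton_congr.2 hs)
    · have h1 := dC_spec k (genericPoint X)
      rw [(genericPoint_spec X).def] at h1
      have h2 : topologicalKrullDim ↥(Set.univ : Set X) = topologicalKrullDim X :=
        (Homeomorph.Set.univ X).isHomeomorph.topologicalKrullDim_eq
      rw [h2, hdim] at h1
      have h3 : n = dC k (genericPoint X) := by exact_mod_cast h1
      omega
    · rcases eq_or_ne w₀ x with rfl | hne
      · omega
      · have := dC_lt k (hgen x hx.2) hne; omega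
    · have hne : w₀ ≠ x := fun h => hw₀' (h ▸ hx.2.2)
      have := dC_lt k (hgen x hx.2.1) hne; omega
  | succ j ih =>
    intro hj
    obtain ⟨G, η, w, hG, hfin, hηw, hη, hw, hnη, hdw, hb, hb'⟩ := ih (by omega)
    haveI := hG.1
    let W := {x : X | x ∈ (⊤ : X.Opens) ∧ Curv2.IsWeakAssPoint G x}
    have hW : W.Finite := AssPointLib.finite_assPoints hG.2 ⊤ (NoetherianSpace.isCompact _)
    have hsG := QCohLib.isClosed_support G hG.2
    obtain ⟨F₁, hF₁, hF₁s, hF₁g⟩ := exists_gens k (hsG.inter hZ)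
    obtain ⟨F₂, hF₂, hF₂s, hF₂g⟩ := exists_gens k (hsG.inter (hZ.inter hZ'))
    obtain ⟨D, hD, hdisj, hmeet⟩ := exists_divisor k hA ((hW.union hF₁).union hF₂)
    have hass : ∀ x, Curv2.IsWeakAssPoint G x → x ∉ (D.support : Set X) := fun x hx hxD =>
      Set.disjoint_left.1 hdisj (Or.inl (Or.inl ⟨trivial, hx⟩)) hxD
    have hw1 : ((dC k w - 1 + 1 : ℕ) : WithBot ℕ∞) ≤ topologicalKrullDim ↥(closure ({w} : Set X)) := by
      rw [dC_spec k w]
      exact_mod_cast (show dC k w - 1 + 1 ≤ dC k w by omega)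
    obtain ⟨w', ⟨hw'c, hw'D⟩, hw'd⟩ := exists_point_le_dC (k := k) (isClosed_closure.inter D.support.isClosed)
      (hmeet _ isClosed_closure _ hw1)
    have hww' : w ⤳ w' := specializes_iff_mem_closure.2 hw'c
    obtain ⟨ξ, hηξ, hξw', hξD, hξd⟩ := exists_component k hD (hηw.trans hww') hw'D
    have hsupp := support_cut (D := D) hG
    refine ⟨(cutSeq G D).X₃, ξ, w', isCoh_cut hG hD hass, finExt_cut hD (cutSeq_shortExact hG hD hass) hfin, hξw',
      hsupp.ge ⟨hηξ.mem_closed hsG hη, hξD⟩, hww'.mem_closed hZ hw, by omega, by omega, fun x hx => ?_, fun x hx => ?_⟩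
    · obtain ⟨h1, h2⟩ := hsupp.le hx.1
      obtain ⟨g, hg, hgx⟩ := hF₁g x ⟨h1, hx.2⟩
      have hne : g ≠ x := fun h => Set.disjoint_left.1 hdisj (Or.inl (Or.inr hg)) (h ▸ h2)
      have := dC_lt k hgx hne
      have := hb g (hF₁s hg)
      omega
    · obtain ⟨h1, h2⟩ := hsupp.le hx.1
      obtain ⟨g, hg, hgx⟩ := hF₂g x ⟨h1, hx.2⟩
      have hne : g ≠ x := fun h => Set.disjoint_left.1 hdisj (Or.inr hg) (h ▸ h2)
      have := dC_lt k hgx hne
      have := hb' g (hF₂s hg)
      omega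

omit [HasExt.{u} (U : Scheme.{u}).Modules] in
/-- **Irreducible components of the complement are large.** -/
theorem le_dim_component (hreg : ∀ x : X, IsRegularLocalRing (X.presheaf.stalk x))
    {A : X.Modules} (hA : CohB1.IsAmple A) {n r : ℕ} (hdim : topologicalKrullDim X = n)
    (hq : ∀ F : (U : Scheme.{u}).Modules, Coh.IsCoh F → ∀ i : ℕ, r < i →
      Module.Finite k (Coh.HH (U : Scheme.{u}) F i))
    {Z : Set X} (hZ : IsClosed Z) (hZU : Z ⊆ (U : Set X)ᶜ) {w₀ : X} (hw₀ : w₀ ∈ Z) (hgen : ∀ x ∈ Z, w₀ ⤳ x)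
    (hmax : ∀ g : X, g ∉ U → g ⤳ w₀ → g ∈ Z) :
    n ≤ dC k w₀ + r + 1 := by
  by_contra hlt
  haveI : IsNoetherian X := CurvLib.isNoetherian k (X := X)
  haveI : EnoughInjectives (U : Scheme.{u}).Modules :=
    ModSiteLib.sheafOfModules_enoughInjectives (R := (U : Scheme.{u}).ringCatSheaf)
  haveI : HasExt.{u} (U : Scheme.{u}).Modules := hasExt_of_enoughInjectives.{u} _
  obtain ⟨ω, t, -, hωc, hbij⟩ := CdLefLib.exists_duality_invertible (k := k) hreg n hdim
  let Y : Set X := (U : Set X)ᶜ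
  obtain ⟨F, hF, hFY, hFg⟩ := exists_gens k (show IsClosed Y from U.2.isClosed_compl)
  let Z' : Set X := ⋃ g ∈ F \ Z, closure ({g} : Set X)
  have hZ' : IsClosed Z' := (hF.sdiff).isClosed_biUnion fun g _ => isClosed_closure
  have hw₀' : w₀ ∉ Z' := fun h => by
    obtain ⟨g, hg, hgw⟩ := Set.mem_iUnion₂.1 h
    exact hg.2 (hmax g (hFY hg.1) (specializes_iff_mem_closure.2 hgw))
  obtain ⟨G, η, w, hG, hfin, hηw, hη, hw, hnη, -, hb, hb'⟩ :=
    exists_cut_seq hA hωc hdim hq hZ hZ' hw₀ hw₀' hgen rfl (dC k w₀) le_rfl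
  let S : Set X := CohB1.support G ∩ Z
  have hSc : ∀ x ∈ S, IsClosed ({x} : Set X) := fun x hx => by
    refine isClosed_of_closure_subset fun z hz => ?_
    by_contra hne
    have := dC_lt k (specializes_iff_mem_closure.2 hz) (Ne.symm hne)
    have := hb x hx
    omega
  have hS : S.Finite := by
    obtain ⟨F', hF', hF's, hF'g⟩ := exists_gens k ((QCohLib.isClosed_support G hG.2).inter hZ)
    refine hF'.subset fun x hx => ?_
    obtain ⟨g, hg, hgx⟩ := hF'g x hx
    have := (hSc g (hF's hg)).closure_eq.le (specializes_iff_mem_closure.1 hgx)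
    exact (Set.mem_singleton_iff.1 this).symm ▸ hg
  let I : X.IdealSheafData := Scheme.IdealSheafData.vanishingIdeal (⟨Z, hZ⟩ : Closeds X)
  have hI : (I.support : Set X) = Z := Scheme.IdealSheafData.coe_support_vanishingIdeal _
  let 𝓘 : X.IdealSheafData := Scheme.IdealSheafData.vanishingIdeal (⟨Y, U.2.isClosed_compl⟩ : Closeds X)
  have hI' : (𝓘.support : Set X) = Y := Scheme.IdealSheafData.coe_support_vanishingIdeal _
  have hU : (U : Set X) = (𝓘.support : Set X)ᶜ := by rw [hI']; exact (compl_compl _).symm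
  have hηZ : η ∉ Z := fun h => by
    have := hb η ⟨hη, h⟩
    omega
  let R := Scheme.Modules.restrictFunctor U.ι
  haveI hfinU : Module.Finite k (Ext (R.obj G) (R.obj ω) (n - 1)) := finite_ext_of_iso
    (R.mapIso (HilbPolyLib.unitLeft G)) (hfin _ CurvLib.isInvertible_structureModule (n - 1) (by omega))
  haveI hfinH : Module.Finite k (DCoh.inD _ (R.obj G) ⟶ (DCoh.inD _ (R.obj ω))⟦((n - 1 : ℕ) : ℤ)⟧) :=
    Module.Finite.equiv (Ext.homLinearEquiv (R := k) (X := R.obj G) (Y := R.obj ω) (n := n - 1))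
  obtain ⟨M, ι, hι, hM, hbij', hle⟩ := exists_quotient_sections (k := k) hG I hS hSc (fun x hx => ⟨hx.1, hI ▸ hx.2⟩)
    (hI.ge hw) hη (fun h => hηZ (hI.le h)) hηw
    (Module.finrank k (DCoh.inD _ (R.obj G) ⟶ (DCoh.inD _ (R.obj ω))⟦((n - 1 : ℕ) : ℤ)⟧) +
      Module.finrank k (Coh.HH X G 0) + 1)
  haveI := hι
  haveI := hM.1
  let V : X.Opens := ⟨(I.support : Set X)ᶜ, I.support.isClosed.isOpen_compl⟩
  have hUV : U ≤ V := fun x hx h => hZU (hI.le h) hx
  haveI := isIso_restrict_of_bijOn (φ := ι) hbij' hUV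
  let e : (DCoh.inD _ (R.obj G) ⟶ (DCoh.inD _ (R.obj ω))⟦((n - 1 : ℕ) : ℤ)⟧) ≃ₗ[k]
      (DCoh.inD _ (R.obj M) ⟶ (DCoh.inD _ (R.obj ω))⟦((n - 1 : ℕ) : ℤ)⟧) :=
    Linear.homCongr k ((singleFunctor (U : Scheme.{u}).Modules 0).mapIso (asIso (R.map ι)).symm) (Iso.refl _)
  haveI : Module.Finite k (DCoh.inD _ (R.obj M) ⟶ (DCoh.inD _ (R.obj ω))⟦((n - 1 : ℕ) : ℤ)⟧) := Module.Finite.equiv e
  have h := rank_bound (k := k) n (by omega) hωc t hbij hU hM hG ι fun b => by
    let μ := Dual3.idealMulι (𝓘 ^ b) M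
    have hμ : LichtLib.BijOn U μ := by
      rw [LichtLib.bijOn_iff_isIso_pullback, ← NatIso.isIso_map_iff (Scheme.Modules.restrictFunctorIsoPullback U.ι) μ]
      exact CohExtLib.isIso_restrict_idealMulι (𝓘 ^ b) M (U := U) fun x hx =>
        CohExtLib.notMem_support_pow b fun h => (hU.le hx : x ∈ (𝓘.support : Set X)ᶜ) h
    let π := cokernel.map (μ ≫ ι) ι μ (𝟙 G) (Category.comp_id _)
    have hπ : cokernel.π (μ ≫ ι) ≫ π = cokernel.π ι := (cokernel.π_desc _ _ _).trans (Category.id_comp _)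
    haveI : Epi (cokernel.π (μ ≫ ι) ≫ π) := by rw [hπ]; infer_instance
    haveI : Epi π := epi_of_epi (cokernel.π (μ ≫ ι)) π
    refine surjective_hMap_of_isolated (QCohLib.isCoh_cokernel _ (CohExtLib.isCoh_idealMul _ hM).1 hG)
      (QCohLib.isCoh_cokernel ι hM.1 hG) π hS hSc ⟨Z'ᶜ, hZ'.isOpen_compl⟩ (fun x hx hx' => ?_) (fun x hx hxW => ?_)
      fun x hx => ?_
    · have := hb' x ⟨hx.1, hx.2, hx'⟩
      omega
    · obtain ⟨h1, h2⟩ := support_cokernel_subset _ (hμ.comp (hbij'.mono hUV)) hx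
      refine ⟨h1, by_contra fun hxZ => hxW ?_⟩
      obtain ⟨g, hg, hgx⟩ := hFg x h2
      exact Set.mem_biUnion (show g ∈ F \ Z from ⟨hg, fun hgZ => hxZ (hgx.mem_closed hZ hgZ)⟩)
        (specializes_iff_mem_closure.1 hgx)
    · obtain ⟨h1, h2⟩ := support_cokernel_subset _ hbij' hx
      exact ⟨h1, hI.le (not_not.1 h2)⟩
  have he := e.finrank_eq
  simp only [R] at he hle h
  omega

end CdQLib
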