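import Groth.Agent.CdQLib.Cut
import Groth.Agent.CdFiniteLib.Main
import Groth.Agent.LichtLib.BijOn
import Groth.Agent.KFlatLib.StalkTensor
import Groth.Agent.AVAmpleLib.CartierSection
import Groth.Agent.DepthLib.RegAB
import Groth.Agent.CohGenLib.Twist

/-!
# Cutting a coherent module by a divisor, and finiteness of `Ext` on an open
-/

set_option autoImplicit false
set_option linter.style.haveILetI false
set_option linter.unusedSectionVars false
set_option maxHeartbeats 1000000
set_option synthInstance.maxHeartbeats 200000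
set_option backward.isDefEq.respectTransparency false
set_option backward.isDefEq.respectTransparency.types false

universe u

open CategoryTheory CategoryTheory.Limits AlgebraicGeometry TopologicalSpace Abelian
open Groth.Agent
open scoped TensorProduct

noncomputable section

namespace CdQLib

/-- The tensor product of nonzero finite modules over a local ring is nonzero. -/
theorem nontrivial_tensor {R : Type u} [CommRing R] [IsLocalRing R] {M N : Type u} [AddCommGroup M] [Module R M]
    [AddCommGroup N] [Module R N] [Module.Finite R M] [Module.Finite R N] [Nontrivial M] [Nontrivial N] :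
    Nontrivial (M ⊗[R] N) := by
  haveI h1 : Nontrivial (IsLocalRing.ResidueField R ⊗[R] M) := by
    rw [← not_subsingleton_iff_nontrivial, IsLocalRing.subsingleton_tensorProduct, not_subsingleton_iff_nontrivial]
    infer_instance
  haveI h2 : Nontrivial (IsLocalRing.ResidueField R ⊗[R] N) := by
    rw [← not_subsingleton_iff_nontrivial, IsLocalRing.subsingleton_tensorProduct, not_subsingleton_iff_nontrivial]
    infer_instance
  have e := TensorProduct.AlgebraTensorModule.distribBaseChange R (IsLocalRing.ResidueField R) M N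
  by_contra h
  rw [not_nontrivial_iff_subsingleton] at h
  haveI : Subsingleton (IsLocalRing.ResidueField R ⊗[R] (M ⊗[R] N)) :=
    IsLocalRing.subsingleton_tensorProduct.2 h
  haveI h3 : Subsingleton ((IsLocalRing.ResidueField R ⊗[R] M) ⊗[IsLocalRing.ResidueField R]
      (IsLocalRing.ResidueField R ⊗[R] N)) := e.symm.toEquiv.subsingleton
  exact not_subsingleton_iff_nontrivial.2
    (inferInstance : Nontrivial ((IsLocalRing.ResidueField R ⊗[R] M) ⊗[IsLocalRing.ResidueField R]
      (IsLocalRing.ResidueField R ⊗[R] N))) h3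

variable {X : Scheme.{u}}

/-- The support of a tensor product of coherent modules contains the common support. -/
theorem mem_support_tensor {V M : X.Modules} (hV : Coh.IsCoh V) (hM : Coh.IsCoh M) {x : X}
    (hxV : x ∈ CohB1.support V) (hxM : x ∈ CohB1.support M) : x ∈ CohB1.support (CohB1.tensorMod V M) := by
  haveI := hV.1; haveI := hM.1
  haveI : Module.Finite (X.presheaf.stalk x) ((DerSch.stalkFunctor X x).obj V) := DepthLib.finite_stalk V hV.2 x
  haveI : Module.Finite (X.presheaf.stalk x) ((DerSch.stalkFunctor X x).obj M) := DepthLib.finite_stalk M hM.2 x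
  haveI : Nontrivial ((DerSch.stalkFunctor X x).obj V) := not_subsingleton_iff_nontrivial.1 hxV
  haveI : Nontrivial ((DerSch.stalkFunctor X x).obj M) := not_subsingleton_iff_nontrivial.1 hxM
  have h := nontrivial_tensor (R := X.presheaf.stalk x) (M := (DerSch.stalkFunctor X x).obj V)
    (N := (DerSch.stalkFunctor X x).obj M)
  intro hs
  exact not_subsingleton_iff_nontrivial.2 h ((KFlatLib.stalkTensorIso V M x).toLinearEquiv.toEquiv.subsingleton_congr.2 hs)

/-- A map which is bijective near the associated points is injective. -/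
theorem mono_of_bijOn {A B : X.Modules} [Coh.IsQCoh A] [Coh.IsQCoh B] (φ : A ⟶ B) {V : X.Opens}
    (hφ : LichtLib.BijOn V φ) (h : ∀ x, Curv2.IsWeakAssPoint A x → x ∈ V) : Mono φ := by
  haveI : Coh.IsQCoh (kernel φ) := QCohLib.isQCoh_kernel φ
  refine Preadditive.mono_of_kernel_zero (((AssPointLib.isZero_iff_no_weak).2 fun x hx => ?_).eq_of_src _ _)
  have hi : Function.Injective ((DevissLib.St x).map (kernel.ι φ)).hom := (ModuleCat.mono_iff_injective _).mp inferInstance
  have hw : Curv2.IsWeakAssPoint A x := by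
    obtain ⟨b, hb⟩ := (AssPointLib.weak_def _ _).1 hx
    refine (AssPointLib.weak_def _ _).2 ⟨((DevissLib.St x).map (kernel.ι φ)).hom b, ?_⟩
    rw [← hb]
    congr 1
    ext r
    show r • ((DevissLib.St x).map (kernel.ι φ)).hom b = 0 ↔ r • b = 0
    rw [← map_smul, map_eq_zero_iff _ hi]
  exact DevissLib.notMem_support_kernel φ x (hφ.stalk (h x hw)).1 (AssPointLib.weak_iff_mem_support hx)

variable {D : X.IdealSheafData}

/-- The tensored ideal sequence. -/
abbrev cutSeq (G : X.Modules) (D : X.IdealSheafData) : ShortComplex X.Modules :=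
  (CurvLib.idealSeq D).map (CurvLib.tensorLeft' G)

/-- The cut of a coherent module by a divisor avoiding its associated points. -/
theorem cutSeq_shortExact [IsLocallyNoetherian X] {G : X.Modules} (hG : Coh.IsCoh G)
    (hD : BlowUp.IsEffCartierIdeal D)
    (h : ∀ x, Curv2.IsWeakAssPoint G x → x ∉ (D.support : Set X)) : (cutSeq G D).ShortExact := by
  let T := CurvLib.tensorLeft' G
  have hS := CurvLib.idealSeq_shortExact D
  haveI hTL : T.IsLeftAdjoint := (HomCohLib.homAdj G).isLeftAdjoint
  haveI : PreservesColimitsOfSize.{0, 0} T := (HomCohLib.homAdj G).leftAdjoint_preservesColimits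
  haveI := hS.epi_g
  haveI : Epi (cutSeq G D).g := inferInstanceAs (Epi (T.map _))
  have hc : IsColimit (CokernelCofork.ofπ (cutSeq G D).g (cutSeq G D).zero) :=
    CokernelCofork.mapIsColimit _ hS.gIsCokernel T
  haveI : Mono (cutSeq G D).f := by
    have hI := IntMultLib.isInvertible_idealMod D hD
    haveI : Coh.IsQCoh (cutSeq G D).X₁ := (SerreVanLib.isCoh_tensor hG hI).1
    haveI : Coh.IsQCoh (cutSeq G D).X₂ := (SerreVanLib.isCoh_tensor hG CurvLib.isInvertible_structureModule).1
    let V : X.Opens := ⟨(D.support : Set X)ᶜ, D.support.isClosed.isOpen_compl⟩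
    have hV : Disjoint (V : Set X) (D.support : Set X) := Set.disjoint_left.2 fun x hx => hx
    refine mono_of_bijOn _ (V := V) ((LichtLib.bijOn_idealModι D hV).tensorRight G) fun x hx => ?_
    obtain ⟨e⟩ := CurvLib.nonempty_stalk_tensor_locFree (CurvLib.locFree_of_isInvertible hI) G x
    refine h x ?_
    obtain ⟨b, hb⟩ := (AssPointLib.weak_def _ _).1 hx
    refine (AssPointLib.weak_def _ _).2 ⟨(e ≪≫ₗ LinearEquiv.funUnique (Fin 1) _ _) b, ?_⟩
    rw [← hb]
    congr 1
    ext r
    show r • (e ≪≫ₗ LinearEquiv.funUnique (Fin 1) _ _) b = 0 ↔ r • b = 0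
    rw [← map_smul, LinearEquiv.map_eq_zero_iff]
  exact ShortComplex.ShortExact.mk (ShortComplex.exact_of_g_is_cokernel _ hc)

theorem isCoh_cut [IsLocallyNoetherian X] {G : X.Modules} (hG : Coh.IsCoh G)
    (hD : BlowUp.IsEffCartierIdeal D)
    (h : ∀ x, Curv2.IsWeakAssPoint G x → x ∉ (D.support : Set X)) : Coh.IsCoh (cutSeq G D).X₃ := by
  have hS := cutSeq_shortExact hG hD h
  exact QCohLib.isCoh_of_iso (IsColimit.coconePointUniqueUpToIso (colimit.isColimit _) hS.gIsCokernel)
    (QCohLib.isCoh_cokernel _ (SerreVanLib.isCoh_tensor hG (IntMultLib.isInvertible_idealMod D hD)).1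
      (SerreVanLib.isCoh_tensor hG CurvLib.isInvertible_structureModule))

theorem support_cut [IsLocallyNoetherian X] {G : X.Modules} (hG : Coh.IsCoh G) :
    CohB1.support (cutSeq G D).X₃ = CohB1.support G ∩ (D.support : Set X) := by
  refine Set.Subset.antisymm (fun x hx => ⟨?_, ?_⟩) fun x hx => ?_
  · have h1 : x ∈ CohB1.support (CohB1.tensorMod (ClSub.quotMod D) G) :=
      (DevissLib.support_iso (HilbPolyLib.swapIso G (ClSub.quotMod D))).le hx
    exact CohGenLib.support_tensor_subset _ _ h1
  · exact CurvLib.support_quotMod_subset D (CohGenLib.support_tensor_subset _ _ hx)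
  · exact mem_support_tensor hG (CurvLib.isCoh_quotMod D) hx.1 ((AVAmpleLib.support_quotMod D).ge hx.2)

section Fin

variable (k : Type u) [Field k] [X.Over (Spec (CommRingCat.of k))] (U : X.Opens)
  [HasExt.{u} (U : Scheme.{u}).Modules]

/-- Finiteness of the `Ext` groups of all twists on the open, above a bound. -/
def FinExt (ω G : X.Modules) (i₀ : ℕ) : Prop :=
  ∀ C : X.Modules, PicF.IsInvertible C → ∀ i : ℕ, i₀ < i →
    Module.Finite k (Ext ((Scheme.Modules.restrictFunctor U.ι).obj (CohB1.tensorMod C G))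
      ((Scheme.Modules.restrictFunctor U.ι).obj ω) i)

variable {k U}

/-- Finiteness passes along isomorphisms. -/
theorem finite_ext_of_iso {A A' W : (U : Scheme.{u}).Modules} (e : A ≅ A') {i : ℕ}
    (h : Module.Finite k (Ext A W i)) : Module.Finite k (Ext A' W i) := by
  refine Module.Finite.of_surjective (Ext.bilinearCompOfLinear k A' A W 0 i i (zero_add i) (Ext.mk₀ e.inv))
    fun x => ⟨(Ext.mk₀ e.hom).comp x (zero_add i), ?_⟩
  show (Ext.mk₀ e.inv).comp ((Ext.mk₀ e.hom).comp x (zero_add i)) (zero_add i) = x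
  rw [Ext.mk₀_comp_mk₀_assoc, e.inv_hom_id, Ext.mk₀_id_comp]

/-- The structure sheaf. -/
theorem finExt_base {ω : X.Modules} [IsLocallyNoetherian X] (hω : Coh.IsCoh ω) {r : ℕ}
    (hq : ∀ F : (U : Scheme.{u}).Modules, Coh.IsCoh F → ∀ i : ℕ, r < i →
      Module.Finite k (Coh.HH (U : Scheme.{u}) F i)) :
    FinExt k U ω (Coh.structureModule X) r := fun C hC i hi => by
  let R := Scheme.Modules.restrictFunctor U.ι
  have hN : FlatMod.IsFinLocFree (R.obj (CohB1.tensorMod C (Coh.structureModule X))) :=
    LeffEt.isFinLocFree_restrict U.ι (AmpleDevLib.isFinLocFree_of_isInvertible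
      (HilbPolyLib.isInvertible_tensor hC CurvLib.isInvertible_structureModule))
  obtain ⟨e⟩ := PnDualLib.nonempty_ext_homMod (k := k) hN i (R.obj ω)
  haveI := hq _ (HomCohLib.isCoh_homMod (Groth.Agent.PerfLib.isCoh_of_isFinLocFree hN)
    (CohGenLib.isCoh_restrict U.ι hω)) i hi
  exact Module.Finite.equiv e.symm

/-- Finiteness passes to the cut. -/
theorem finExt_cut {ω G : X.Modules} {D : X.IdealSheafData} (hD : BlowUp.IsEffCartierIdeal D)
    (hS : (cutSeq G D).ShortExact) {i₀ : ℕ} (h : FinExt k U ω G i₀) :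
    FinExt k U ω (cutSeq G D).X₃ (i₀ + 1) := fun C hC i hi => by
  let R := Scheme.Modules.restrictFunctor U.ι
  haveI : PreservesFiniteLimits R := inferInstance
  haveI : R.IsLeftAdjoint := (Scheme.Modules.restrictAdjunction U.ι).isLeftAdjoint
  let S' := ((cutSeq G D).map (CurvLib.tensorLeft' C)).map R
  have hS' : S'.ShortExact := (HilbPolyLib.shortExact_tensor hC hS).map_of_exact R
  let W := R.obj ω
  obtain ⟨i', rfl⟩ : ∃ i', i = i' + 1 := ⟨i - 1, by omega⟩
  haveI h₁ : Module.Finite k (Ext S'.X₁ W i') := finite_ext_of_iso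
    (R.mapIso (SerreVanLib.tensorAssoc C (ClSub.idealMod D) G ≪≫
      HilbPolyLib.congrRight C (HilbPolyLib.swapIso (ClSub.idealMod D) G)))
    (h _ (HilbPolyLib.isInvertible_tensor hC (IntMultLib.isInvertible_idealMod D hD)) i' (by omega))
  haveI h₂ : Module.Finite k (Ext S'.X₂ W (i' + 1)) := finite_ext_of_iso
    (R.mapIso (HilbPolyLib.congrRight C ((KFlatLib.tensUnitIso G).symm ≪≫
      HilbPolyLib.swapIso (Coh.structureModule X) G)))
    (h C hC (i' + 1) (by omega))
  let δ := Ext.bilinearCompOfLinear k S'.X₃ S'.X₁ W 1 i' (i' + 1) (by omega) hS'.extClass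
  let res := Ext.bilinearCompOfLinear k S'.X₂ S'.X₃ W 0 (i' + 1) (i' + 1) (zero_add _) (Ext.mk₀ S'.g)
  refine ⟨Submodule.fg_of_fg_map_of_fg_inf_ker res (IsNoetherian.noetherian _) ?_⟩
  have hle : (⊤ : Submodule k (Ext S'.X₃ W (i' + 1))) ⊓ LinearMap.ker res ≤ LinearMap.range δ := fun x hx => by
    obtain ⟨y, hy⟩ := Ext.contravariant_sequence_exact₃ hS' W x hx.2 (show 1 + i' = i' + 1 by omega)
    exact ⟨y, hy⟩
  haveI : Module.Finite k (LinearMap.range δ) := Module.Finite.range δ
  exact (Module.Finite.iff_fg).1 (Module.Finite.of_injective (Submodule.inclusion hle) (Submodule.inclusion_injective hle))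

end Fin

end CdQLib
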